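import Groth.Agent.HilbSam.Serre
import Groth.Agent.HilbSam.Degree
import Mathlib

/-! Additivity of Samuel multiplicities. -/

set_option autoImplicit false

universe u

open Filter Topology

namespace Groth.Agent.SamuelAdd

variable {A : Type u} [CommRing A] [IsNoetherianRing A] [IsLocalRing A]

/-- the normalised Hilbert–Samuel function -/
noncomputable def nrm (I : Ideal A) (d : ℕ) (M : Type u) [AddCommGroup M] [Module A M] (t : ℕ) : ℝ :=
  (d.factorial : ℝ) * ((Module.length A (M ⧸ (I ^ t • (⊤ : Submodule A M)))).toNat : ℝ) / (t : ℝ) ^ d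

theorem isArtinianRing_quotient {I : Ideal A} (hI : ∃ n : ℕ, IsLocalRing.maximalIdeal A ^ n ≤ I) :
    IsArtinianRing (A ⧸ I) := by
  by_cases htop : I = ⊤
  · subst htop
    have : Subsingleton (A ⧸ (⊤ : Ideal A)) := Ideal.Quotient.subsingleton_iff.2 rfl
    infer_instance
  obtain ⟨n, hn⟩ := hI
  refine @IsNoetherianRing.isArtinianRing_of_krullDimLE_zero (A ⧸ I) _ _
    (Ring.krullDimLE_zero_iff.2 fun P hP => ?_)
  have hle : I ≤ P.comap (Ideal.Quotient.mk I) := by
    conv_lhs => rw [← Ideal.mk_ker (I := I)]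
    exact Ideal.comap_mono bot_le
  have hm : IsLocalRing.maximalIdeal A ≤ P.comap (Ideal.Quotient.mk I) :=
    (Ideal.IsPrime.comap (Ideal.Quotient.mk I) (hK := hP)).le_of_pow_le (hn.trans hle)
  have hmax : (P.comap (Ideal.Quotient.mk I)).IsMaximal := by
    rw [← (IsLocalRing.maximalIdeal.isMaximal A).eq_of_le (Ideal.IsPrime.ne_top
      (Ideal.IsPrime.comap (Ideal.Quotient.mk I) (hK := hP))) hm]
    exact IsLocalRing.maximalIdeal.isMaximal A
  rw [← Ideal.map_comap_of_surjective _ Ideal.Quotient.mk_surjective P]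
  exact (Ideal.map_eq_top_or_isMaximal_of_surjective _ Ideal.Quotient.mk_surjective hmax).resolve_left fun h => by
    rw [Ideal.map_comap_of_surjective _ Ideal.Quotient.mk_surjective P] at h
    exact hP.ne_top h

variable (I : Ideal A) [IsArtinianRing (A ⧸ I)] {M' M M'' : Type u} [AddCommGroup M'] [Module A M']
  [AddCommGroup M] [Module A M] [AddCommGroup M''] [Module A M''] [Module.Finite A M'] [Module.Finite A M]
  [Module.Finite A M''] (f : M' →ₗ[A] M) (g : M →ₗ[A] M'') (hf : Function.Injective f)
  (hg : Function.Surjective g) (hfg : LinearMap.range f = LinearMap.ker g)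

include hg hfg in
/-- the middle length -/
theorem length_eq (t : ℕ) :
    Module.length A (M ⧸ (I ^ t • (⊤ : Submodule A M))) =
      Module.length A (M' ⧸ (I ^ t • (⊤ : Submodule A M)).comap f) +
      Module.length A (M'' ⧸ (I ^ t • (⊤ : Submodule A M''))) := by
  let J := (I ^ t • (⊤ : Submodule A M))
  let J'' := (I ^ t • (⊤ : Submodule A M''))
  have hJ : J ≤ J''.comap g := by
    rw [← Submodule.map_le_iff_le_comap, Submodule.map_smul'']
    exact Submodule.smul_mono le_rfl le_top
  have hJ' : J'' ≤ J.map g := by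
    rw [Submodule.map_smul'', Submodule.map_top, LinearMap.range_eq_top.2 hg]
  refine Module.length_eq_add_of_exact (Submodule.mapQ (J.comap f) J f le_rfl)
    (Submodule.mapQ J J'' g hJ) ?_ ?_ ?_
  · rw [← LinearMap.ker_eq_bot, eq_bot_iff]
    intro z hz
    obtain ⟨z, rfl⟩ := Submodule.Quotient.mk_surjective _ z
    rw [LinearMap.mem_ker, Submodule.mapQ_apply, Submodule.Quotient.mk_eq_zero] at hz
    exact (Submodule.Quotient.mk_eq_zero _).2 hz
  · intro z
    obtain ⟨z, rfl⟩ := Submodule.Quotient.mk_surjective _ z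
    obtain ⟨m, rfl⟩ := hg z
    exact ⟨Submodule.Quotient.mk m, rfl⟩
  · intro z
    obtain ⟨z, rfl⟩ := Submodule.Quotient.mk_surjective _ z
    constructor
    · intro hz
      rw [Submodule.mapQ_apply, Submodule.Quotient.mk_eq_zero] at hz
      obtain ⟨j, hj, hjz⟩ := hJ' hz
      have hk : z - j ∈ LinearMap.range f := by rw [hfg, LinearMap.mem_ker, map_sub, hjz, sub_self]
      obtain ⟨w, hw⟩ := hk
      refine ⟨Submodule.Quotient.mk w, ?_⟩
      rw [Submodule.mapQ_apply, Submodule.Quotient.eq, hw, sub_sub_cancel_left]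
      exact neg_mem hj
    · rintro ⟨w, hw⟩
      obtain ⟨w, rfl⟩ := Submodule.Quotient.mk_surjective _ w
      rw [← hw, Submodule.mapQ_apply, Submodule.mapQ_apply]
      have : g (f w) = 0 := by rw [← LinearMap.mem_ker, ← hfg]; exact ⟨w, rfl⟩
      rw [this]; rfl

include hf in
/-- Artin–Rees comparison -/
theorem exists_sandwich : ∃ c : ℕ, ∀ t, c ≤ t →
    (I ^ t • (⊤ : Submodule A M)).comap f ≤ I ^ (t - c) • (⊤ : Submodule A M') := by
  obtain ⟨c, hc⟩ := I.exists_pow_inf_eq_pow_smul (LinearMap.range f)
  refine ⟨c, fun t ht x hx => ?_⟩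
  have h1 : f x ∈ I ^ t • (⊤ : Submodule A M) ⊓ LinearMap.range f := ⟨hx, ⟨x, rfl⟩⟩
  rw [hc t ht] at h1
  have h2 : I ^ (t - c) • (I ^ c • (⊤ : Submodule A M) ⊓ LinearMap.range f) ≤
      (I ^ (t - c) • (⊤ : Submodule A M')).map f := by
    rw [Submodule.map_smul'', Submodule.map_top]
    exact Submodule.smul_mono le_rfl inf_le_right
  obtain ⟨y, hy, hyx⟩ := h2 h1
  exact hf hyx ▸ hy

include hf hg hfg in
theorem tendsto_add (d : ℕ) (e' e'' : ℝ) (h' : Tendsto (nrm I d M') atTop (𝓝 e'))
    (h'' : Tendsto (nrm I d M'') atTop (𝓝 e'')) : Tendsto (nrm I d M) atTop (𝓝 (e' + e'')) := by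
  obtain ⟨c, hc⟩ := exists_sandwich I f hf
  let mid : ℕ → ℝ := fun t => (d.factorial : ℝ) *
    ((Module.length A (M' ⧸ (I ^ t • (⊤ : Submodule A M)).comap f)).toNat : ℝ) / (t : ℝ) ^ d
  have hfin : ∀ t, Module.length A (M' ⧸ (I ^ t • (⊤ : Submodule A M)).comap f) ≠ ⊤ := fun t h => by
    have := length_eq I f g hg hfg t
    rw [h, top_add] at this
    exact HilbSam.length_quotient_ne_top I t this
  have hmid : Tendsto mid atTop (𝓝 e') := by
    have hlow : Tendsto (fun t : ℕ => nrm I d M' (t - c) * (((t - c : ℕ) : ℝ) / (t : ℝ)) ^ d) atTop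
        (𝓝 (e' * 1 ^ d)) := by
      refine (h'.comp (tendsto_sub_atTop_nat c)).mul (Tendsto.pow ?_ d)
      have h0 : Tendsto (fun t : ℕ => 1 - (c : ℝ) / (t : ℝ)) atTop (𝓝 (1 - 0)) :=
        tendsto_const_nhds.sub (tendsto_const_div_atTop_nhds_zero_nat _)
      rw [sub_zero] at h0
      refine h0.congr' ?_
      filter_upwards [eventually_ge_atTop c, eventually_gt_atTop 0] with t ht ht0
      rw [Nat.cast_sub ht, sub_div, div_self (by positivity)]
    rw [one_pow, mul_one] at hlow
    refine tendsto_of_tendsto_of_tendsto_of_le_of_le' hlow h' ?_ ?_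
    · filter_upwards [eventually_gt_atTop c] with t ht
      have hle : (Module.length A (M' ⧸ (I ^ (t - c) • (⊤ : Submodule A M')))).toNat ≤
          (Module.length A (M' ⧸ (I ^ t • (⊤ : Submodule A M)).comap f)).toNat :=
        ENat.toNat_le_toNat (Module.length_le_of_surjective _
          (Submodule.factor_surjective (hc t ht.le))) (hfin t)
      have h1 : ((t - c : ℕ) : ℝ) ≠ 0 := Nat.cast_ne_zero.2 (by omega)
      show nrm I d M' (t - c) * (((t - c : ℕ) : ℝ) / (t : ℝ)) ^ d ≤ mid t
      simp only [nrm, mid]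
      rw [div_pow, div_mul_div_cancel₀ (pow_ne_zero _ h1)]
      gcongr
    · filter_upwards [eventually_gt_atTop 0] with t ht
      have hle : (I ^ t • (⊤ : Submodule A M')) ≤ (I ^ t • (⊤ : Submodule A M)).comap f := by
        rw [← Submodule.map_le_iff_le_comap, Submodule.map_smul'']
        exact Submodule.smul_mono le_rfl le_top
      have hle' : (Module.length A (M' ⧸ (I ^ t • (⊤ : Submodule A M)).comap f)).toNat ≤
          (Module.length A (M' ⧸ (I ^ t • (⊤ : Submodule A M')))).toNat :=
        ENat.toNat_le_toNat (Module.length_le_of_surjective _ (Submodule.factor_surjective hle))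
          (HilbSam.length_quotient_ne_top I t)
      simp only [nrm, mid]
      gcongr
  refine (hmid.add h'').congr fun t => ?_
  simp only [nrm, mid]
  rw [length_eq I f g hg hfg t, ENat.toNat_add (hfin t) (HilbSam.length_quotient_ne_top I t)]
  push_cast
  ring

/-- the normalised function of a module of smaller dimension tends to zero -/
theorem tendsto_zero (hI : I ≤ IsLocalRing.maximalIdeal A) (d : ℕ) (hd : Module.supportDim A M < d) :
    Tendsto (nrm I d M) atTop (𝓝 0) := by
  cases subsingleton_or_nontrivial M with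
  | inl _ =>
    refine tendsto_const_nhds.congr fun t => ?_
    rw [nrm, Module.length_eq_zero]
    simp
  | inr _ =>
    obtain ⟨P, ⟨N, hN⟩, hdeg⟩ := HilbSam.exists_polynomial_natDegree_eq (M := M) I
      (hI.trans (IsLocalRing.maximalIdeal_le_jacobson _))
    rw [← hdeg] at hd
    have hlt : P.natDegree < d := by exact_mod_cast hd
    let Q : Polynomial ℝ := Polynomial.C (d.factorial : ℝ) * P.map (algebraMap ℚ ℝ)
    have hQ : Tendsto (fun x : ℝ => Polynomial.eval x Q / Polynomial.eval x (Polynomial.X ^ d : Polynomial ℝ))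
        atTop (𝓝 0) := by
      refine Polynomial.div_tendsto_atTop_zero_of_degree_lt _ _ ?_
      rw [Polynomial.degree_X_pow]
      calc Q.degree ≤ (P.map (algebraMap ℚ ℝ)).degree :=
            (Polynomial.degree_mul_le _ _).trans (add_le_add Polynomial.degree_C_le le_rfl) |>.trans (zero_add _).le
        _ ≤ (P.natDegree : WithBot ℕ) := by
            rw [Polynomial.degree_map]; exact Polynomial.degree_le_natDegree
        _ < (d : WithBot ℕ) := by exact_mod_cast hlt
    refine (hQ.comp tendsto_natCast_atTop_atTop).congr' ?_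
    filter_upwards [eventually_ge_atTop N] with t ht
    have he := congrArg (algebraMap ℚ ℝ) (hN t ht)
    simp only [Function.comp_apply, Q, Polynomial.eval_mul, Polynomial.eval_C, Polynomial.eval_map,
      Polynomial.eval_pow, Polynomial.eval_X, nrm]
    rw [map_natCast] at he
    rw [show (P.eval₂ (algebraMap ℚ ℝ) (t : ℝ)) = algebraMap ℚ ℝ (P.eval (t : ℚ)) by
      rw [← Polynomial.eval₂_at_natCast], ← he]
    rfl

omit [IsLocalRing A] [IsArtinianRing (A ⧸ I)] [Module.Finite A M] [Module.Finite A M''] in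
theorem nrm_congr (e : M ≃ₗ[A] M'') (d : ℕ) : nrm I d M = nrm I d M'' := by
  funext t
  rw [nrm, nrm, le_antisymm (HilbSam.length_quotient_le_of_surjective I e.symm.toLinearMap e.symm.surjective t)
    (HilbSam.length_quotient_le_of_surjective I e.toLinearMap e.surjective t)]

/-- the length of the localisation at a prime -/
noncomputable def locLen (p : PrimeSpectrum A) (M : Type u) [AddCommGroup M] [Module A M] : ℕ∞ :=
  Module.length (Localization.AtPrime p.asIdeal) (LocalizedModule p.asIdeal.primeCompl M)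

include hf hg hfg in
omit [IsNoetherianRing A] [IsLocalRing A] [Module.Finite A M'] [Module.Finite A M] [Module.Finite A M''] in
theorem locLen_add (p : PrimeSpectrum A) : locLen p M = locLen p M' + locLen p M'' :=
  Module.length_eq_add_of_exact (LocalizedModule.map p.asIdeal.primeCompl f)
    (LocalizedModule.map p.asIdeal.primeCompl g)
    (LocalizedModule.map_injective _ _ hf) (LocalizedModule.map_surjective _ _ hg)
    (LocalizedModule.map_exact _ _ _ (LinearMap.exact_iff.2 hfg.symm))

omit [IsLocalRing A] in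
theorem ringKrullDim_quotient_add_one_le {p q : Ideal A} [p.IsPrime] (hpq : p < q) :
    ringKrullDim (A ⧸ q) + 1 ≤ ringKrullDim (A ⧸ p) := by
  obtain ⟨r, hrq, hrp⟩ := SetLike.exists_of_lt hpq
  have hr : Ideal.Quotient.mk p r ∈ nonZeroDivisors (A ⧸ p) :=
    mem_nonZeroDivisors_of_ne_zero fun h => hrp (Ideal.Quotient.eq_zero_iff_mem.1 h)
  refine le_trans ?_ (ringKrullDim_quotient_succ_le_of_nonZeroDivisor hr)
  gcongr
  have hsurj : Function.Surjective (Ideal.Quotient.factor (S := p) (T := q) hpq.le) :=
    Ideal.Quotient.factor_surjective hpq.le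
  refine ringKrullDim_le_of_surjective (Ideal.Quotient.lift (Ideal.span {Ideal.Quotient.mk p r})
    (Ideal.Quotient.factor hpq.le) fun a ha => ?_) (Ideal.Quotient.lift_surjective_of_surjective _ _ hsurj)
  have : Ideal.span {Ideal.Quotient.mk p r} ≤ RingHom.ker (Ideal.Quotient.factor (S := p) (T := q) hpq.le) :=
    (Ideal.span_singleton_le_iff_mem _).2 (Ideal.Quotient.eq_zero_iff_mem.2 hrq)
  exact this ha

omit [IsLocalRing A] in
theorem locLen_quot_self (p : PrimeSpectrum A) : locLen p (A ⧸ p.asIdeal) = 1 := by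
  let x₀ : LocalizedModule p.asIdeal.primeCompl (A ⧸ p.asIdeal) :=
    LocalizedModule.mk (Ideal.Quotient.mk p.asIdeal 1) 1
  let g := LinearMap.toSpanSingleton (Localization.AtPrime p.asIdeal)
    (LocalizedModule p.asIdeal.primeCompl (A ⧸ p.asIdeal)) x₀
  have hker : IsLocalRing.maximalIdeal (Localization.AtPrime p.asIdeal) ≤ LinearMap.ker g := by
    rw [← Localization.AtPrime.map_eq_maximalIdeal, Ideal.map_le_iff_le_comap]
    intro a ha
    rw [Ideal.mem_comap, LinearMap.mem_ker]
    show algebraMap A (Localization.AtPrime p.asIdeal) a • x₀ = 0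
    rw [algebraMap_smul, LocalizedModule.smul'_mk]
    rw [show (a • Ideal.Quotient.mk p.asIdeal 1) = (0 : A ⧸ p.asIdeal) by
      rw [← Ideal.Quotient.mk_eq_mk, ← Submodule.Quotient.mk_smul, Submodule.Quotient.mk_eq_zero]
      simpa using ha, LocalizedModule.zero_mk]
  have hsurj : Function.Surjective (Submodule.liftQ _ g hker) := by
    intro x
    induction x using LocalizedModule.induction_on with
    | h m s =>
      obtain ⟨a, rfl⟩ := Ideal.Quotient.mk_surjective m
      refine ⟨Submodule.Quotient.mk (Localization.mk a s), ?_⟩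
      rw [Submodule.liftQ_apply]
      show (Localization.mk a s : Localization.AtPrime p.asIdeal) • x₀ = LocalizedModule.mk (Ideal.Quotient.mk p.asIdeal a) s
      rw [LocalizedModule.mk_smul_mk, mul_one]
      congr 1
      rw [← Ideal.Quotient.mk_eq_mk, ← Submodule.Quotient.mk_smul]
      simp
  have hne : Nontrivial (LocalizedModule p.asIdeal.primeCompl (A ⧸ p.asIdeal)) := by
    have : p ∈ Module.support A (A ⧸ p.asIdeal) := by
      rw [Module.mem_support_iff_of_finite, Ideal.annihilator_quotient]
    exact this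
  have hsim : IsSimpleModule (Localization.AtPrime p.asIdeal)
      (Localization.AtPrime p.asIdeal ⧸ IsLocalRing.maximalIdeal (Localization.AtPrime p.asIdeal)) :=
    isSimpleModule_iff_isCoatom.2 (IsLocalRing.maximalIdeal.isMaximal _).out
  refine le_antisymm ((Module.length_le_of_surjective _ hsurj).trans (Module.length_eq_one _ _).le)
    (Order.one_le_iff_pos.2 Module.length_pos)

omit [IsLocalRing A] in
theorem locLen_quot_of_not_le {p q : PrimeSpectrum A} (h : ¬ p.asIdeal ≤ q.asIdeal) :
    locLen q (A ⧸ p.asIdeal) = 0 := by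
  haveI : Subsingleton (LocalizedModule q.asIdeal.primeCompl (A ⧸ p.asIdeal)) := by
    rw [← Module.notMem_support_iff, Module.mem_support_iff_of_finite, Ideal.annihilator_quotient]
    exact h
  exact Module.length_eq_zero

/-- the multiplicity formula -/
theorem tendsto_sum (hI : I ≤ IsLocalRing.maximalIdeal A) (d : ℕ) (e : PrimeSpectrum A → ℝ)
    (he : ∀ p : PrimeSpectrum A, ringKrullDim (A ⧸ p.asIdeal) = d → Tendsto (nrm I d (A ⧸ p.asIdeal)) atTop (𝓝 (e p)))
    (M : Type u) [AddCommGroup M] [Module A M] [hM : Module.Finite A M] (hd : Module.supportDim A M ≤ d) :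
    Tendsto (nrm I d M) atTop (𝓝 (∑ᶠ (p : PrimeSpectrum A) (_ : ringKrullDim (A ⧸ p.asIdeal) = d),
      ((locLen p M).toNat : ℝ) * e p)) := by
  classical
  suffices h : Tendsto (nrm I d M) atTop (𝓝 (∑ᶠ (p : PrimeSpectrum A) (_ : ringKrullDim (A ⧸ p.asIdeal) = d),
      ((locLen p M).toNat : ℝ) * e p)) ∧ {p : PrimeSpectrum A | ringKrullDim (A ⧸ p.asIdeal) = d ∧ locLen p M ≠ 0}.Finite ∧
      ∀ p : PrimeSpectrum A, ringKrullDim (A ⧸ p.asIdeal) = d → locLen p M ≠ ⊤ from h.1
  revert hd
  induction hM using IsNoetherianRing.induction_on_isQuotientEquivQuotientPrime A with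
  | subsingleton N =>
    intro _
    have hz : ∀ p : PrimeSpectrum A, locLen p N = 0 := fun p => by
      haveI : Subsingleton (LocalizedModule p.asIdeal.primeCompl N) := by
        rw [← Module.notMem_support_iff, Module.support_eq_empty]; simp
      exact Module.length_eq_zero
    refine ⟨?_, ?_, fun p _ => by rw [hz]; exact ENat.zero_ne_top⟩
    · simp only [hz, ENat.toNat_zero, Nat.cast_zero, zero_mul, finsum_zero]
      refine tendsto_const_nhds.congr fun t => ?_
      rw [nrm, Module.length_eq_zero]; simp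
    · simp [hz]
  | quotient N p f =>
    intro hd
    rw [Module.supportDim_eq_of_equiv f, Module.supportDim_quotient_eq_ringKrullDim] at hd
    have hlen : ∀ q : PrimeSpectrum A, ringKrullDim (A ⧸ q.asIdeal) = d →
        locLen q N = if q = p then 1 else 0 := by
      intro q hq
      have h1 : locLen q N = locLen q (A ⧸ p.asIdeal) :=
        LinearEquiv.length_eq (LinearEquiv.ofBijective (LocalizedModule.map q.asIdeal.primeCompl f.toLinearMap)
          ⟨LocalizedModule.map_injective _ _ f.injective, LocalizedModule.map_surjective _ _ f.surjective⟩)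
      rw [h1]
      by_cases hqp : q = p
      · subst hqp; rw [if_pos rfl]; exact locLen_quot_self q
      · rw [if_neg hqp]
        refine locLen_quot_of_not_le fun hle => ?_
        have := ringKrullDim_quotient_add_one_le (lt_of_le_of_ne hle fun hh => hqp (PrimeSpectrum.ext hh).symm)
        rw [hq] at this
        have h2 := this.trans hd
        norm_cast at h2
        omega
    refine ⟨?_, (Set.finite_singleton p).subset fun q hq => ?_, fun q hq => ?_⟩
    · rw [nrm_congr I f d]
      by_cases hp : ringKrullDim (A ⧸ p.asIdeal) = d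
      · rw [finsum_eq_single _ p (fun q hqp => by
          rw [finsum_eq_if]; split_ifs with hq
          · rw [hlen q hq, if_neg hqp]; simp
          · rfl)]
        rw [finsum_eq_if, if_pos hp, hlen p hp, if_pos rfl]
        simpa using he p hp
      · rw [finsum_eq_zero_of_forall_eq_zero fun q => by
          rw [finsum_eq_if]; split_ifs with hq
          · rw [hlen q hq, if_neg (fun h => by subst h; exact hp hq)]; simp
          · rfl]
        refine tendsto_zero I hI d ?_
        rw [Module.supportDim_quotient_eq_ringKrullDim]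
        exact lt_of_le_of_ne hd hp
    · by_contra hqp
      exact hq.2 (by rw [hlen q hq.1, if_neg (show ¬ q = p from hqp)])
    · rw [hlen q hq]; split_ifs <;> simp
  | exact N₁ N₂ N₃ f g hf hg hfg h₁ h₃ =>
    intro hd
    have hsupp := Module.support_of_exact hfg hf hg
    have hle : ∀ {S T : Set (PrimeSpectrum A)}, S ⊆ T → Order.krullDim S ≤ Order.krullDim T := fun hST =>
      Order.krullDim_le_of_strictMono (fun x => ⟨x.1, hST x.2⟩) fun _ _ h => h
    obtain ⟨t1, s1, f1⟩ := h₁ ((hle (hsupp ▸ Set.subset_union_left)).trans hd)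
    obtain ⟨t3, s3, f3⟩ := h₃ ((hle (hsupp ▸ Set.subset_union_right)).trans hd)
    have hfg' : LinearMap.range f = LinearMap.ker g := (LinearMap.exact_iff.1 hfg).symm
    have hadd : ∀ p, locLen p N₂ = locLen p N₁ + locLen p N₃ := locLen_add f g hf hg hfg'
    refine ⟨?_, (s1.union s3).subset fun p hp => ?_, fun p hp => by
      rw [hadd]; exact WithTop.add_ne_top.2 ⟨f1 p hp, f3 p hp⟩⟩
    · have := tendsto_add I f g hf hg hfg' d _ _ t1 t3
      convert this using 2
      let T : Set (PrimeSpectrum A) := {p | ringKrullDim (A ⧸ p.asIdeal) = d}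
      have hs : ∀ (N : Type u) [AddCommGroup N] [Module A N],
          {p : PrimeSpectrum A | ringKrullDim (A ⧸ p.asIdeal) = d ∧ locLen p N ≠ 0}.Finite →
          (T ∩ (fun p : PrimeSpectrum A => ((locLen p N).toNat : ℝ) * e p).support).Finite := fun N _ _ h =>
        h.subset fun p hp => ⟨hp.1, fun h0 => hp.2 (by simp [h0])⟩
      show ∑ᶠ p ∈ T, ((locLen p N₂).toNat : ℝ) * e p =
        (∑ᶠ p ∈ T, ((locLen p N₁).toNat : ℝ) * e p) + ∑ᶠ p ∈ T, ((locLen p N₃).toNat : ℝ) * e p
      rw [← finsum_mem_add_distrib' (hs N₁ s1) (hs N₃ s3)]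
      refine finsum_mem_congr rfl fun p hp => ?_
      rw [hadd, ENat.toNat_add (f1 p hp) (f3 p hp)]
      push_cast; ring
    · by_contra h
      simp only [Set.mem_union, Set.mem_setOf_eq, not_or, not_and, not_not] at h
      exact hp.2 (by rw [hadd, h.1 hp.1, h.2 hp.1, add_zero])

end Groth.Agent.SamuelAdd
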